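import Cfsg.Agent.Omega.NatPair.Mod
set_option linter.all false

/-!
# Constructing a natural module (`NatMod`) from the output of the field theorem

`NatMod.of_field`: `L` a subgroup of `Aut V` normalised by the image of `N_G(V)` and contained in it, `L ≃ SL₂(F)` and
`V ≃ F²` compatibly (the output of `ClassTwoFusion.SL2Field.exists_field'` with `C_V(L) = 1`).
-/

set_option autoImplicit false
set_option linter.unusedSectionVars false

namespace Cfsg.Agent.Omega.NatPair

open Subgroup Cfsg.Agent.Lib.SL2Mat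

variable {G : Type*} [Group G] {F : Type*} [Field F]

theorem ap_eq_mulVec (A : Matrix.SpecialLinearGroup (Fin 2) F) (x : Fin 2 → F) : ap A x = A.1.mulVec x := by
  apply ext2
  · show _ = ∑ j, A.1 0 j * x j
    rw [Fin.sum_univ_two]; rfl
  · show _ = ∑ j, A.1 1 j * x j
    rw [Fin.sum_univ_two]; rfl

/-- a natural module from an equivariant bijection `V ≃ F²` -/
noncomputable def NatMod.ofMap {V : Subgroup G} (ε : V → (Fin 2 → F)) (hmul : ∀ v w, ε (v * w) = ε v + ε w)
    (hbij : Function.Bijective ε)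
    (hlift : ∀ A : Matrix.SpecialLinearGroup (Fin 2) F, ∃ g, ∃ hg : g ∈ normalizer (V : Set G), ∀ v : V,
      ε ⟨g * v * g⁻¹, (mem_normalizer_iff.1 hg v).1 v.2⟩ = ap A (ε v))
    (hnorm : ∀ g ∈ normalizer (V : Set G), ∀ (h : G) (hh : h ∈ normalizer (V : Set G))
      (A : Matrix.SpecialLinearGroup (Fin 2) F),
      (∀ v : V, ε ⟨h * v * h⁻¹, (mem_normalizer_iff.1 hh v).1 v.2⟩ = ap A (ε v)) →
      ∃ B : Matrix.SpecialLinearGroup (Fin 2) F, ∀ (hk : g * h * g⁻¹ ∈ normalizer (V : Set G)) (v : V),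
        ε ⟨g * h * g⁻¹ * v * (g * h * g⁻¹)⁻¹, (mem_normalizer_iff.1 hk v).1 v.2⟩ = ap B (ε v)) : NatMod F V :=
  let E : V ≃ (Fin 2 → F) := Equiv.ofBijective ε hbij
  have hE : ∀ v, E v = ε v := fun _ => rfl
  have hind : ∀ (g : G) (hg : g ∈ normalizer (V : Set G)) (A : Matrix.SpecialLinearGroup (Fin 2) F),
      (∀ x : Fin 2 → F, g * (E.symm x : G) * g⁻¹ = (E.symm (ap A x) : G)) ↔
      ∀ v : V, ε ⟨g * v * g⁻¹, (mem_normalizer_iff.1 hg v).1 v.2⟩ = ap A (ε v) := by
    intro g hg A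
    constructor
    · intro h v
      have h1 := h (E v)
      rw [E.symm_apply_apply] at h1
      have h2 : (⟨g * v * g⁻¹, (mem_normalizer_iff.1 hg v).1 v.2⟩ : V) = E.symm (ap A (E v)) := Subtype.ext h1
      rw [h2, ← hE, E.apply_symm_apply, hE]
    · intro h x
      have h1 := h (E.symm x)
      rw [← hE, ← hE, E.apply_symm_apply] at h1
      have h2 : (⟨g * (E.symm x : V) * g⁻¹, (mem_normalizer_iff.1 hg _).1 (E.symm x).2⟩ : V) =
          E.symm (ap A x) := by rw [← h1, E.symm_apply_apply]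
      exact congrArg Subtype.val h2
  { e := fun x => (E.symm x : G)
    e_add := fun x y => by
      have h1 : E.symm (x + y) = E.symm x * E.symm y := by
        apply E.injective
        rw [hE (E.symm x * E.symm y), hmul, ← hE, ← hE, E.apply_symm_apply, E.apply_symm_apply, E.apply_symm_apply]
      rw [h1]; rfl
    e_inj := fun x y h => E.symm.injective (Subtype.ext h)
    mem_iff := fun g => by
      constructor
      · intro hg
        exact ⟨E ⟨g, hg⟩, by rw [E.symm_apply_apply]⟩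
      · rintro ⟨x, rfl⟩
        exact (E.symm x).2
    lift := fun A => by
      obtain ⟨g, hg, h⟩ := hlift A
      exact ⟨g, (hind g hg A).2 h⟩
    norm := fun g hg h A hA => by
      have hh : h ∈ normalizer (V : Set G) := by
        rw [mem_normalizer_iff]
        intro n
        constructor
        · intro hn
          have h1 := hA (E ⟨n, hn⟩)
          rw [E.symm_apply_apply] at h1
          change h * n * h⁻¹ = _ at h1
          rw [h1]; exact (E.symm _).2
        · intro hn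
          have h1 := hA (ap A⁻¹ (E ⟨_, hn⟩))
          rw [ap_ap_inv, E.symm_apply_apply] at h1
          have h2 : h⁻¹ * (h * (E.symm (ap A⁻¹ (E ⟨_, hn⟩)) : G) * h⁻¹) * h = h⁻¹ * (h * n * h⁻¹) * h := by rw [h1]
          have h3 : (E.symm (ap A⁻¹ (E ⟨_, hn⟩)) : G) = n := by
            calc (E.symm (ap A⁻¹ (E ⟨_, hn⟩)) : G) = h⁻¹ * (h * (E.symm (ap A⁻¹ (E ⟨_, hn⟩)) : G) * h⁻¹) * h := by group
              _ = h⁻¹ * (h * n * h⁻¹) * h := h2
              _ = n := by group
          rw [← h3]; exact (E.symm _).2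
      obtain ⟨B, hB⟩ := hnorm g hg h hh A ((hind h hh A).1 hA)
      have hk : g * h * g⁻¹ ∈ normalizer (V : Set G) := mul_mem (mul_mem hg hh) (inv_mem hg)
      exact ⟨B, (hind _ hk B).2 (hB hk)⟩ }

theorem NatMod.of_field {V : Subgroup G} (L : Subgroup (MulAut V)) (hL : L ≤ V.normalizerMonoidHom.range)
    (hLn : ∀ g : normalizer (V : Set G), ∀ x ∈ L, V.normalizerMonoidHom g * x * (V.normalizerMonoidHom g)⁻¹ ∈ L)
    (φ : L ≃* Matrix.SpecialLinearGroup (Fin 2) F) (ε : V → (Fin 2 → F)) (hmul : ∀ v w, ε (v * w) = ε v + ε w)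
    (hs : Function.Surjective ε) (hker : ∀ v, ε v = 0 ↔ v = 1)
    (hφ : ∀ (x : L) (v : V), ε ((x : MulAut V) v) = (φ x).1.mulVec (ε v)) : Nonempty (NatMod F V) := by
  have hinj : Function.Injective ε := by
    intro v w h
    have h1 : ε (v * w⁻¹) = 0 := by
      have h2 := hmul (v * w⁻¹) w
      rw [inv_mul_cancel_right, h] at h2
      exact right_eq_add.1 h2
    exact mul_inv_eq_one.1 ((hker _).1 h1)
  have hap : ∀ (x : L) (v : V), ε ((x : MulAut V) v) = ap (φ x) (ε v) := fun x v => by rw [hφ, ap_eq_mulVec]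
  have hval : ∀ (g : normalizer (V : Set G)) (v : V), V.normalizerMonoidHom g v =
      ⟨g * v * (g : G)⁻¹, (mem_normalizer_iff.1 g.2 v).1 v.2⟩ := fun g v => rfl
  refine ⟨NatMod.ofMap ε hmul ⟨hinj, hs⟩ ?_ ?_⟩
  · intro A
    obtain ⟨g, hg⟩ := hL (φ.symm A).2
    refine ⟨g, g.2, fun v => ?_⟩
    have h1 := hap (φ.symm A) v
    rw [← hg, φ.apply_symm_apply, hval] at h1
    exact h1
  · intro g hg h hh A hA
    have h1 : V.normalizerMonoidHom ⟨h, hh⟩ = ((φ.symm A : L) : MulAut V) := by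
      ext v
      have h2 : ε (V.normalizerMonoidHom ⟨h, hh⟩ v) = ε (((φ.symm A : L) : MulAut V) v) := by
        rw [hap, φ.apply_symm_apply]
        exact hA v
      rw [hinj h2]
    have h2 := hLn ⟨g, hg⟩ _ (φ.symm A).2
    rw [← h1, ← map_inv, ← map_mul, ← map_mul] at h2
    refine ⟨φ ⟨_, h2⟩, fun hk v => ?_⟩
    have h3 := hap ⟨_, h2⟩ v
    exact h3

end Cfsg.Agent.Omega.NatPair
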